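import Mathlib.CategoryTheory.Abelian.Injective.Ext
import Mathlib.CategoryTheory.Abelian.RightDerived
import Mathlib.CategoryTheory.Adjunction.Additive
import Mathlib.CategoryTheory.Adjunction.Limits
import Mathlib.Algebra.Homology.ShortComplex.Abelian
import Mathlib.CategoryTheory.Preadditive.Injective.Basic

/-!
# A universal extension class for a right adjoint with vanishing lower derived functors

For `L ⊣ R` with `L` exact and `(RⁱR)(Y) = 0` for `i < c`, there is `ξ ∈ Ext^c(L ω, Y)`, `ω = (R^cR)(Y)`,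
such that `φ ↦ L φ · ξ` identifies `Hom(F, ω)` with `Ext^c(L F, Y)`.
-/

set_option autoImplicit false
set_option linter.style.haveILetI false
set_option linter.unusedSectionVars false

universe w v u v' u'

open CategoryTheory CategoryTheory.Limits Abelian

noncomputable section

namespace Groth.Agent.DerAdj12

section Complex

variable {A : Type u} [Category.{v} A] [Abelian A] (K : CochainComplex A ℕ) [∀ i, Injective (K.X i)]

theorem isIso_iCycles_zero_of {c : ℕ} (h : c = 0) : IsIso (K.homologyπ c) := by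
  subst h
  exact K.isIso_homologyπ (ComplexShape.up ℕ |>.prev 0) 0 rfl (K.shape _ _ (by simp))

theorem injective_cycles (c : ℕ) (hK : ∀ i, i < c → IsZero (K.homology i)) :
    ∀ q, q < c → Injective (K.cycles q) := by
  intro q
  induction q with
  | zero =>
    intro hq
    haveI := isIso_iCycles_zero_of K rfl
    haveI : Injective (K.homology 0) := ⟨fun g f _ => ⟨0, (hK 0 hq).eq_of_tgt _ _⟩⟩
    exact Injective.of_iso (asIso (K.homologyπ 0)).symm ‹_›
  | succ q ih =>
    intro hq
    haveI := ih (by omega)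
    haveI : Epi (K.toCycles q (q + 1)) :=
      (ShortComplex.exact_of_g_is_cokernel (ShortComplex.mk _ _ (K.toCycles_comp_homologyπ q (q + 1)))
        (K.homologyIsCokernel q (q + 1) (by simp))).epi_f ((hK (q + 1) hq).eq_of_tgt _ _)
    have w : K.iCycles q ≫ K.toCycles q (q + 1) = 0 := by
      rw [← cancel_mono (K.iCycles (q + 1))]
      simp
    let T : ShortComplex A := ShortComplex.mk (K.iCycles q) (K.toCycles q (q + 1)) w
    have hT : T.ShortExact :=
      { exact := ShortComplex.exact_of_f_is_kernel T (KernelFork.IsLimit.ofι' _ _ fun g hg =>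
          ⟨K.liftCycles g (q + 1) (by simp) (by rw [← K.toCycles_i, reassoc_of% hg, zero_comp]),
            K.liftCycles_i _ _ _ _⟩) }
    let σ := hT.splittingOfInjective
    exact Retract.injective (Y := K.X q)
      { i := σ.s, r := K.toCycles q (q + 1), retract := σ.s_g }

/-- The top cycles split over homology, by boundaries. -/
theorem exists_section (c : ℕ) (hK : ∀ i, i < c → IsZero (K.homology i)) :
    ∃ s : K.homology c ⟶ K.cycles c, s ≫ K.homologyπ c = 𝟙 _ ∧
      ∀ p, p + 1 = c → ∀ (F : A) (g : F ⟶ K.cycles c), g ≫ K.homologyπ c = 0 →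
        ∃ h : F ⟶ K.X p, h ≫ K.toCycles p c = g := by
  rcases c with - | q
  · haveI := isIso_iCycles_zero_of K rfl
    exact ⟨inv (K.homologyπ 0), IsIso.inv_hom_id _, fun p hp => absurd hp (by omega)⟩
  haveI := injective_cycles K (q + 1) hK q q.lt_succ_self
  let T : ShortComplex A := ShortComplex.mk (K.iCycles q) (cokernel.π (K.iCycles q)) (cokernel.condition _)
  have hT : T.ShortExact := { exact := ShortComplex.exact_cokernel _ }
  let σ := hT.splittingOfInjective
  haveI hB : Injective T.X₃ := Retract.injective (Y := K.X q) { i := σ.s, r := T.g, retract := σ.s_g }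
  have w : K.iCycles q ≫ K.toCycles q (q + 1) = 0 := by
    rw [← cancel_mono (K.iCycles (q + 1))]
    simp
  let β : T.X₃ ⟶ K.cycles (q + 1) := cokernel.desc (K.iCycles q) (K.toCycles q (q + 1)) w
  have hβ : T.g ≫ β = K.toCycles q (q + 1) := cokernel.π_desc _ _ _
  have hmono : Mono β := by
    rw [Preadditive.mono_iff_cancel_zero]
    intro W g hg
    have h1 : (g ≫ σ.s) ≫ K.d q (q + 1) = 0 := by
      rw [← K.toCycles_i q (q + 1), ← hβ]
      simp only [Category.assoc]
      rw [reassoc_of% σ.s_g, reassoc_of% hg, zero_comp]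
    have h2 : g ≫ σ.s = K.liftCycles (g ≫ σ.s) (q + 1) (by simp) h1 ≫ T.f :=
      (K.liftCycles_i _ _ _ _).symm
    calc g = (g ≫ σ.s) ≫ T.g := by simp
      _ = 0 := by rw [h2, Category.assoc, T.zero, comp_zero]
  haveI := hmono
  have w' : β ≫ K.homologyπ (q + 1) = 0 := by
    rw [← cancel_epi T.g, reassoc_of% hβ]
    simp
  let U : ShortComplex A := ShortComplex.mk β (K.homologyπ (q + 1)) w'
  have hUe : U.Exact := by
    let S' : ShortComplex A := ShortComplex.mk _ _ (K.toCycles_comp_homologyπ q (q + 1))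
    let φ : S' ⟶ U :=
      { τ₁ := T.g, τ₂ := 𝟙 _, τ₃ := 𝟙 _, comm₁₂ := by simp [S', U, hβ], comm₂₃ := by simp [S', U] }
    haveI : Epi φ.τ₁ := inferInstanceAs (Epi T.g)
    haveI : IsIso φ.τ₂ := inferInstanceAs (IsIso (𝟙 _))
    haveI : Mono φ.τ₃ := inferInstanceAs (Mono (𝟙 _))
    exact (ShortComplex.exact_iff_of_epi_of_isIso_of_mono φ).1
      (ShortComplex.exact_of_g_is_cokernel S' (K.homologyIsCokernel q (q + 1) (by simp)))
  have hU : U.ShortExact := { exact := hUe }
  haveI : Injective U.X₁ := hB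
  let τ := hU.splittingOfInjective
  refine ⟨τ.s, τ.s_g, fun p hp F g hg => ?_⟩
  obtain rfl : p = q := by omega
  refine ⟨(g ≫ τ.r) ≫ σ.s, ?_⟩
  calc ((g ≫ τ.r) ≫ σ.s) ≫ K.toCycles p (p + 1) = g ≫ τ.r ≫ (σ.s ≫ T.g) ≫ β := by
        rw [← hβ]; simp only [Category.assoc]
    _ = g ≫ τ.r ≫ U.f := by rw [σ.s_g, Category.id_comp]
    _ = g ≫ (τ.r ≫ U.f + U.g ≫ τ.s) := by
        rw [Preadditive.comp_add, ← Category.assoc g U.g, hg, zero_comp, add_zero]
    _ = g := by rw [τ.id, Category.comp_id]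

end Complex

variable {A : Type u} [Category.{v} A] [Abelian A] {B : Type u'} [Category.{v'} B] [Abelian B]
  [EnoughInjectives B] [HasExt.{w} B] {L : A ⥤ B} {R : B ⥤ A} [L.Additive] [R.Additive]

/-- The universal class. -/
theorem exists_universal (adj : L ⊣ R) [L.PreservesMonomorphisms] (Y : B) (c : ℕ)
    (hvan : ∀ q, q < c → IsZero ((R.rightDerived q).obj Y)) {ω : A} (e : (R.rightDerived c).obj Y ≅ ω) :
    ∃ ξ : Ext (L.obj ω) Y c, ∀ F : A, Function.Bijective fun φ : F ⟶ ω =>
      (Ext.mk₀ (L.map φ)).comp ξ (zero_add c) := by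
  rcases c with - | p
  · haveI : PreservesFiniteLimits R :=
      haveI : PreservesLimitsOfSize.{0, 0} R := adj.rightAdjoint_preservesLimits
      PreservesLimitsOfSize.preservesFiniteLimits _
    let e' : ω ≅ R.obj Y := e.symm ≪≫ R.rightDerivedZeroIsoSelf.app Y
    refine ⟨Ext.mk₀ ((adj.homEquiv _ _).symm e'.hom), fun F => ?_⟩
    have h : (fun φ : F ⟶ ω => (Ext.mk₀ (L.map φ)).comp (Ext.mk₀ ((adj.homEquiv _ _).symm e'.hom)) (zero_add 0)) =
        fun φ => Ext.mk₀ ((adj.homEquiv F Y).symm (φ ≫ e'.hom)) := funext fun φ => by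
      rw [Ext.mk₀_comp_mk₀, ← adj.homEquiv_naturality_left_symm]
    rw [h]
    have h2 : Function.Bijective fun φ : F ⟶ ω => φ ≫ e'.hom :=
      ⟨fun _ _ h => (cancel_mono e'.hom).1 h, fun ψ => ⟨ψ ≫ e'.inv, by simp⟩⟩
    exact (Ext.mk₀_bijective _ _).comp ((adj.homEquiv F Y).symm.bijective.comp h2)
  let I := injectiveResolution Y
  let K := (R.mapHomologicalComplex (ComplexShape.up ℕ)).obj I.cocomplex
  haveI : ∀ i, Injective (K.X i) := fun i => Injective.injective_of_adjoint adj (I.cocomplex.X i)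
  have hK : ∀ i, i < p + 1 → IsZero (K.homology i) := fun i hi =>
    (hvan i hi).of_iso (I.isoRightDerivedObj R i).symm
  let e' : ω ≅ K.homology (p + 1) := e.symm ≪≫ I.isoRightDerivedObj R (p + 1)
  obtain ⟨s, hs, hlift⟩ := exists_section K (p + 1) hK
  let a : ω ⟶ R.obj (I.cocomplex.X (p + 1)) := e'.hom ≫ s ≫ K.iCycles (p + 1)
  have ha : (adj.homEquiv _ _).symm a ≫ I.cocomplex.d (p + 1) (p + 2) = 0 := by
    rw [← adj.homEquiv_naturality_right_symm,
      show a ≫ R.map (I.cocomplex.d (p + 1) (p + 2)) = 0 by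
        show (e'.hom ≫ s ≫ K.iCycles (p + 1)) ≫ K.d (p + 1) (p + 2) = 0
        simp,
      Adjunction.homEquiv_counit]
    simp
  refine ⟨I.extMk ((adj.homEquiv _ _).symm a) (p + 2) rfl ha, fun F => ?_⟩
  have key : ∀ φ : F ⟶ ω, L.map φ ≫ (adj.homEquiv _ _).symm a = (adj.homEquiv _ _).symm (φ ≫ a) :=
    fun φ => (adj.homEquiv_naturality_left_symm _ _).symm
  have hinj : ∀ φ : F ⟶ ω, (Ext.mk₀ (L.map φ)).comp (I.extMk ((adj.homEquiv _ _).symm a) (p + 2) rfl ha)
      (zero_add (p + 1)) = 0 → φ = 0 := by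
    intro φ h
    rw [I.mk₀_comp_extMk, I.extMk_eq_zero_iff _ _ _ _ p rfl] at h
    obtain ⟨g, hg⟩ := h
    rw [key] at hg
    have h1 : adj.homEquiv _ _ g ≫ K.d p (p + 1) = φ ≫ a := by
      have := congrArg (adj.homEquiv _ _) hg
      rw [Equiv.apply_symm_apply, adj.homEquiv_naturality_right] at this
      exact this
    have h2 : adj.homEquiv _ _ g ≫ K.toCycles p (p + 1) = φ ≫ e'.hom ≫ s := by
      rw [← cancel_mono (K.iCycles (p + 1))]
      refine ((Category.assoc _ _ _).trans (congrArg _ (K.toCycles_i _ _))).trans (h1.trans ?_)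
      simp [a]
      try rfl
    have h3 : (adj.homEquiv _ _ g ≫ K.toCycles p (p + 1)) ≫ K.homologyπ (p + 1) =
        (φ ≫ e'.hom ≫ s) ≫ K.homologyπ (p + 1) := congrArg (fun z => z ≫ K.homologyπ (p + 1)) h2
    rw [← cancel_mono e'.hom, zero_comp]
    refine Eq.trans ?_ (h3.symm.trans ((Category.assoc _ _ _).trans
      ((congrArg _ (K.toCycles_comp_homologyπ p (p + 1))).trans comp_zero)))
    simp only [Category.assoc, hs, Category.comp_id]
  constructor
  · intro φ φ' h
    refine sub_eq_zero.1 (hinj _ ?_)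
    have h' := h
    dsimp only at h'
    rw [show φ = (φ - φ') + φ' from (sub_add_cancel _ _).symm, L.map_add, Ext.mk₀_add, Ext.add_comp] at h'
    exact add_eq_right.1 h' 
  · intro x
    obtain ⟨f, hf, rfl⟩ := I.extMk_surjective x (p + 2) rfl
    have hf' : adj.homEquiv _ _ f ≫ K.d (p + 1) (p + 2) = 0 := by
      show adj.homEquiv _ _ f ≫ R.map (I.cocomplex.d (p + 1) (p + 2)) = 0
      rw [← adj.homEquiv_naturality_right, hf, Adjunction.homEquiv_unit]
      simp
    let z : F ⟶ K.cycles (p + 1) := K.liftCycles (adj.homEquiv _ _ f) (p + 2) (by simp) hf'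
    let φ : F ⟶ ω := (z ≫ K.homologyπ (p + 1)) ≫ e'.inv
    refine ⟨φ, ?_⟩
    show (Ext.mk₀ (L.map φ)).comp (I.extMk ((adj.homEquiv _ _).symm a) (p + 2) rfl ha) (zero_add (p + 1)) = _
    rw [I.mk₀_comp_extMk, ← sub_eq_zero, I.sub_extMk, I.extMk_eq_zero_iff _ _ _ _ p rfl]
    obtain ⟨h, hh⟩ := hlift p rfl F (φ ≫ e'.hom ≫ s - z) (by
      simp [φ, Preadditive.sub_comp, hs])
    refine ⟨(adj.homEquiv _ _).symm h, (adj.homEquiv _ _).injective ?_⟩
    have h5 : h ≫ K.d p (p + 1) = φ ≫ a - adj.homEquiv _ _ f := by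
      rw [← K.toCycles_i p (p + 1), reassoc_of% hh, Preadditive.sub_comp]
      simp [a, z]
      first
        | rfl
        | exact congrArg (fun t => _ - t) (K.liftCycles_i _ _ _ _)
    refine (adj.homEquiv_naturality_right _ _).trans
      ((congrArg (· ≫ R.map _) (Equiv.apply_symm_apply _ h)).trans (h5.trans ?_))
    rw [key]
    show _ = adj.homAddEquiv _ _ (_ - _)
    rw [map_sub]
    exact congrArg (fun t => t - _) (Equiv.apply_symm_apply _ _).symm

end Groth.Agent.DerAdj12
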