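import Mathlib.CategoryTheory.Abelian.RightDerived
import Mathlib.CategoryTheory.Abelian.Injective.Resolution
import Mathlib.CategoryTheory.Preadditive.Injective.Basic
import Mathlib.Algebra.Homology.ShortComplex.Abelian

/-!
# Derived functors of complexes of injectives concentrated in one degree

If a complex `K` of injectives has homology only in degree `c`, then `H^{p+c}(F K) ≅ R^p F (H^c K)`; in
particular `R^{p+c}(G ⋙ F) Y ≅ R^p F (R^c G Y)` when `G` preserves injectives and `R^q G Y = 0` for `q ≠ c`.
-/

set_option autoImplicit false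
set_option linter.style.haveILetI false
set_option linter.unusedSectionVars false
set_option backward.isDefEq.respectTransparency false
set_option backward.isDefEq.respectTransparency.types false

universe v u v' u' v'' u''

open CategoryTheory CategoryTheory.Limits

noncomputable section

namespace Groth.Agent.DerAdj12

variable {A : Type u} [Category.{v} A] [Abelian A] (K : CochainComplex A ℕ)

/-- The terms of `K` after splitting off degree zero. -/
def stripX : ℕ → A
  | 0 => cokernel (K.d 0 1)
  | n + 1 => K.X (n + 2)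

/-- The differentials of `K` after splitting off degree zero. -/
def stripD : ∀ n, stripX K n ⟶ stripX K (n + 1)
  | 0 => cokernel.desc (K.d 0 1) (K.d 1 2) (K.d_comp_d 0 1 2)
  | n + 1 => K.d (n + 2) (n + 3)

/-- `K` with degree zero split off, shifted down by one. -/
def strip : CochainComplex A ℕ :=
  CochainComplex.of (stripX K) (stripD K) fun n => by
    cases n with
    | zero =>
      refine (cancel_epi (cokernel.π (K.d 0 1))).1 ?_
      rw [comp_zero]
      exact (cokernel.π_desc_assoc _ _ _ _).trans (K.d_comp_d 1 2 3)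
    | succ n => exact K.d_comp_d _ _ _

theorem strip_d (n : ℕ) : (strip K).d n (n + 1) = stripD K n := CochainComplex.of_d _ _ _

/-- The projection in degree one. -/
def stripπ : ∀ n, K.X (n + 1) ⟶ stripX K n
  | 0 => cokernel.π (K.d 0 1)
  | n + 1 => 𝟙 (K.X (n + 2))

theorem stripπ_comm : ∀ n : ℕ, K.d (n + 1) (n + 2) ≫ stripπ K (n + 1) = stripπ K n ≫ stripD K n
  | 0 => (Category.comp_id (obj := A) _).trans (cokernel.π_desc _ _ _).symm
  | n + 1 => (Category.comp_id _).trans (Category.id_comp _).symm

variable {K}

theorem mono_d_zero (h0 : IsZero (K.homology 0)) : Mono (K.d 0 1) := by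
  haveI : IsIso (K.homologyπ 0) :=
    K.isIso_homologyπ ((ComplexShape.up ℕ).prev 0) 0 rfl (K.shape _ _ (by simp))
  rw [Preadditive.mono_iff_cancel_zero]
  intro W g hg
  rw [← K.liftCycles_i g 1 (by simp) hg, (h0.of_iso (asIso (K.homologyπ 0))).eq_of_tgt (K.liftCycles g 1 (by simp) hg) 0,
    zero_comp]

/-- Homology after dividing the middle term by the image. -/
theorem nonempty_homology_iso_of_cokernel {B : Type u'} [Category.{v'} B] [Abelian B] (S T : ShortComplex B)
    (hTf : T.f = 0) (π : S.X₂ ⟶ T.X₂) (wp : S.f ≫ π = 0) (hp : IsColimit (CokernelCofork.ofπ π wp))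
    (τ : S.X₃ ≅ T.X₃) (h : π ≫ T.g = S.g ≫ τ.hom) : Nonempty (S.homology ≅ T.homology) := by
  have hdesc : hp.desc (CokernelCofork.ofπ S.g S.zero) = T.g ≫ τ.inv := Cofork.IsColimit.hom_ext hp
    ((hp.fac (CokernelCofork.ofπ S.g S.zero) WalkingParallelPair.one).trans
      (show S.g = π ≫ T.g ≫ τ.inv by rw [reassoc_of% h, τ.hom_inv_id, Category.comp_id]))
  let rh : S.RightHomologyData :=
    { Q := T.X₂
      H := kernel (T.g ≫ τ.inv)
      p := π
      ι := kernel.ι _
      wp := wp
      hp := hp
      wι := by rw [hdesc]; exact kernel.condition _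
      hι := KernelFork.IsLimit.ofι _ _
        (fun g hg => kernel.lift (T.g ≫ τ.inv) g (hdesc ▸ hg)) (fun g hg => kernel.lift_ι _ _ _)
        (fun g hg m hm => (cancel_mono (kernel.ι (T.g ≫ τ.inv))).1 (hm.trans (kernel.lift_ι _ _ _).symm)) }
  let lh := ShortComplex.LeftHomologyData.ofIsLimitKernelFork T hTf (KernelFork.ofι (kernel.ι T.g) (kernel.condition _))
    (kernelIsKernel _)
  exact ⟨rh.homologyIso ≪≫ kernelCompMono T.g τ.inv ≪≫ lh.homologyIso.symm⟩

variable {B : Type u'} [Category.{v'} B] [Abelian B] (F : A ⥤ B) [F.Additive] [∀ i, Injective (K.X i)]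

theorem injective_strip (h0 : IsZero (K.homology 0)) : ∀ i, Injective ((strip K).X i) := by
  intro i
  cases i with
  | zero =>
    haveI := mono_d_zero h0
    let T : ShortComplex A := ShortComplex.mk (K.d 0 1) (cokernel.π (K.d 0 1)) (cokernel.condition _)
    have hT : T.ShortExact := { exact := ShortComplex.exact_cokernel _ }
    let σ := hT.splittingOfInjective
    exact Retract.injective (Y := K.X 1) { i := σ.s, r := T.g, retract := σ.s_g }
  | succ i => exact inferInstanceAs (Injective (K.X (i + 2)))

/-- Splitting off degree zero does not change the higher homology of `F K`. -/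
theorem nonempty_homology_strip (h0 : IsZero (K.homology 0)) (q : ℕ) :
    Nonempty (((F.mapHomologicalComplex _).obj K).homology (q + 1) ≅
      ((F.mapHomologicalComplex _).obj (strip K)).homology q) := by
  haveI := mono_d_zero h0
  let T : ShortComplex A := ShortComplex.mk (K.d 0 1) (cokernel.π (K.d 0 1)) (cokernel.condition _)
  have hT : T.ShortExact := { exact := ShortComplex.exact_cokernel _ }
  let σ := hT.splittingOfInjective.map F
  let FK := (F.mapHomologicalComplex (ComplexShape.up ℕ)).obj K
  let FS := (F.mapHomologicalComplex (ComplexShape.up ℕ)).obj (strip K)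
  haveI hπ : Epi (F.map (stripπ K 0)) :=
    haveI := σ.isSplitEpi_g
    inferInstanceAs (Epi (T.map F).g)
  rcases q with - | q
  · obtain ⟨e⟩ := nonempty_homology_iso_of_cokernel (FK.sc' 0 1 2) (FS.sc' 0 0 1)
      (show F.map ((strip K).d 0 0) = 0 by rw [(strip K).shape 0 0 (by simp), F.map_zero])
      (F.map (cokernel.π (K.d 0 1))) (T.map F).zero σ.gIsCokernel (Iso.refl _) (by
        show F.map (cokernel.π (K.d 0 1)) ≫ F.map ((strip K).d 0 1) = F.map (K.d 1 2) ≫ 𝟙 _
        rw [Category.comp_id, strip_d]
        exact (F.map_comp _ _).symm.trans (congrArg F.map (cokernel.π_desc _ _ _)))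
    exact ⟨FK.homologyIsoSc' 0 1 2 (by simp) (by simp) ≪≫ e ≪≫
      (FS.homologyIsoSc' 0 0 1 (by simp) (by simp)).symm⟩
  · let φ : FK.sc' (q + 1) (q + 2) (q + 3) ⟶ FS.sc' q (q + 1) (q + 2) :=
      ShortComplex.homMk (F.map (stripπ K q)) (F.map (stripπ K (q + 1))) (F.map (stripπ K (q + 2)))
        (by
          show F.map (stripπ K q) ≫ F.map ((strip K).d q (q + 1)) = F.map (K.d (q + 1) (q + 2)) ≫ _
          exact (F.map_comp _ _).symm.trans ((congrArg F.map
            ((congrArg (stripπ K q ≫ ·) (strip_d K q)).trans (stripπ_comm K q).symm)).trans (F.map_comp _ _)))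
        (by
          show F.map (stripπ K (q + 1)) ≫ F.map ((strip K).d (q + 1) (q + 2)) = F.map (K.d (q + 2) (q + 3)) ≫ _
          exact (F.map_comp _ _).symm.trans ((congrArg F.map
            ((congrArg (stripπ K (q + 1) ≫ ·) (strip_d K (q + 1))).trans (stripπ_comm K (q + 1)).symm)).trans (F.map_comp _ _)))
    haveI : Epi φ.τ₁ := by
      cases q with
      | zero => exact hπ
      | succ q => exact inferInstanceAs (Epi (F.map (𝟙 (K.X (q + 2)))))
    haveI : IsIso φ.τ₂ := inferInstanceAs (IsIso (F.map (𝟙 (K.X (q + 2)))))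
    haveI : Mono φ.τ₃ := inferInstanceAs (Mono (F.map (𝟙 (K.X (q + 3)))))
    haveI := ShortComplex.quasiIso_of_epi_of_isIso_of_mono φ
    exact ⟨FK.homologyIsoSc' (q + 1) (q + 2) (q + 3) (by simp) (by simp) ≪≫ asIso (ShortComplex.homologyMap φ) ≪≫
      (FS.homologyIsoSc' q (q + 1) (q + 2) (by simp) (by simp)).symm⟩

variable [EnoughInjectives A]

omit [∀ i, Injective (K.X i)] in
/-- Complexes of injectives concentrated in degree `c` compute derived functors. -/
theorem nonempty_homology_concentrated (c : ℕ) : ∀ (K : CochainComplex A ℕ) [∀ i, Injective (K.X i)],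
    (∀ i, i ≠ c → IsZero (K.homology i)) → ∀ p : ℕ,
    Nonempty (((F.mapHomologicalComplex _).obj K).homology (p + c) ≅ (F.rightDerived p).obj (K.homology c)) := by
  induction c with
  | zero =>
    intro K _ hK p
    haveI : IsIso (K.homologyπ 0) :=
      K.isIso_homologyπ ((ComplexShape.up ℕ).prev 0) 0 rfl (K.shape _ _ (by simp))
    let a : K.homology 0 ⟶ K.X 0 := inv (K.homologyπ 0) ≫ K.iCycles 0
    let R : InjectiveResolution (K.homology 0) :=
      { cocomplex := K
        ι := (CochainComplex.fromSingle₀Equiv K _).symm ⟨a, by simp [a]⟩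
        quasiIso := ⟨fun n => by
          cases n with
          | zero =>
            rw [CochainComplex.quasiIsoAt₀_iff, ShortComplex.quasiIso_iff_of_zeros]
            · refine (ShortComplex.exact_and_mono_f_iff_of_iso ?_).2
                (show (ShortComplex.mk a (K.d 0 1) (by simp [a])).Exact ∧ Mono a from
                  ⟨ShortComplex.exact_of_f_is_kernel _ (IsLimit.ofIsoLimit (K.cyclesIsKernel 0 1 (by simp))
                    (Fork.ext (asIso (K.homologyπ 0)) (by simp [a]))), inferInstanceAs (Mono (_ ≫ _))⟩)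
              exact ShortComplex.isoMk (Iso.refl _) (Iso.refl _) (Iso.refl _) (by simp) (by simp)
            all_goals first | rfl | exact K.shape 0 0 (by simp)
          | succ n =>
            rw [quasiIsoAt_iff_exactAt]
            · exact (K.exactAt_iff_isZero_homology _).2 (hK _ (by omega))
            · apply CochainComplex.exactAt_succ_single_obj⟩ }
    exact ⟨(R.isoRightDerivedObj F p).symm⟩
  | succ c ih =>
    intro K _ hK p
    have h0 := hK 0 (by omega)
    haveI := injective_strip h0
    have hid : ∀ q, Nonempty (K.homology (q + 1) ≅ (strip K).homology q) := fun q => by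
      obtain ⟨e⟩ := nonempty_homology_strip (𝟭 A) h0 q
      let u : ∀ L : CochainComplex A ℕ, ((𝟭 A).mapHomologicalComplex (ComplexShape.up ℕ)).obj L ≅ L := fun L =>
        (Functor.mapHomologicalComplexIdIso A (ComplexShape.up ℕ)).app L
      exact ⟨(HomologicalComplex.homologyFunctor A _ (q + 1)).mapIso (u K).symm ≪≫ e ≪≫
        (HomologicalComplex.homologyFunctor A _ q).mapIso (u (strip K))⟩
    obtain ⟨e⟩ := nonempty_homology_strip F h0 (p + c)
    obtain ⟨e'⟩ := ih (strip K) (fun i hi => (hK (i + 1) (by omega)).of_iso (hid i).some.symm) p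
    exact ⟨e ≪≫ e' ≪≫ (F.rightDerived p).mapIso (hid c).some.symm⟩

/-- The degenerate case of composing derived functors. -/
theorem nonempty_rightDerived_comp_concentrated {C : Type u''} [Category.{v''} C] [Abelian C] [EnoughInjectives C]
    (G : C ⥤ A) [G.Additive] (hG : ∀ I : C, Injective I → Injective (G.obj I)) (Y : C) (c : ℕ)
    (hY : ∀ q, q ≠ c → IsZero ((G.rightDerived q).obj Y)) (p : ℕ) :
    Nonempty (((G ⋙ F).rightDerived (p + c)).obj Y ≅ (F.rightDerived p).obj ((G.rightDerived c).obj Y)) := by
  let I := injectiveResolution Y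
  haveI : ∀ i, Injective (((G.mapHomologicalComplex (ComplexShape.up ℕ)).obj I.cocomplex).X i) := fun i =>
    hG _ (I.injective i)
  obtain ⟨e⟩ := nonempty_homology_concentrated F c ((G.mapHomologicalComplex (ComplexShape.up ℕ)).obj I.cocomplex)
    (fun q hq => (hY q hq).of_iso (I.isoRightDerivedObj G q).symm) p
  exact ⟨I.isoRightDerivedObj (G ⋙ F) (p + c) ≪≫ e ≪≫ (F.rightDerived p).mapIso (I.isoRightDerivedObj G c).symm⟩

end Groth.Agent.DerAdj12
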